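import Groth.Agent.Lib.TorBal27.Balance
import Groth.Prelude.Def_DRing2
import Mathlib.LinearAlgebra.TensorProduct.Tower
import Mathlib.RingTheory.TensorProduct.Free
import Mathlib.RingTheory.Localization.BaseChange
import Mathlib.RingTheory.Flat.Localization

/-!
# Semilinear base change of `Tor`
-/

set_option autoImplicit false
universe u

open CategoryTheory CategoryTheory.Limits MonoidalCategory TensorProduct

noncomputable section

namespace Groth.Agent.TorBal27

variable {A A' : Type u} [CommRing A] [CommRing A']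

/-- Semilinear identifications of complexes identify the homology. -/
theorem exists_semilinear_homology {ι : Type} {c : ComplexShape ι} (σ : A →+* A')
    (K : HomologicalComplex (ModuleCat.{u} A) c) (K' : HomologicalComplex (ModuleCat.{u} A') c)
    {i j k : ι} (hi : c.prev j = i) (hk : c.next j = k) (e : ∀ i, K.X i ≃+ K'.X i)
    (hsmul : ∀ (i) (a : A) (x : K.X i), e i (a • x) = σ a • e i x)
    (hd : ∀ (i l) (x : K.X i), e l (K.d i l x) = K'.d i l (e i x)) :
    ∃ φ : K.homology j →ₛₗ[σ] K'.homology j, Function.Bijective φ := by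
  classical
  have hcyc : ∀ z : K.cycles j, ∃ w : K'.cycles j, K'.iCycles j w = e j (K.iCycles j z) := fun z => by
    refine DMod.exists_cycle hk _ ?_
    rw [← hd, DMod.d_iCycles, map_zero]
  choose w hw using hcyc
  have hsurj := DMod.homologyπ_surjective K j
  have key : ∀ z z', K.homologyπ j z = K.homologyπ j z' → K'.homologyπ j (w z) = K'.homologyπ j (w z') := by
    intro z z' h
    rw [← sub_eq_zero, ← map_sub, DMod.homologyπ_eq_zero_iff hi] at h
    obtain ⟨y, hy⟩ := h
    rw [← sub_eq_zero, ← map_sub, DMod.homologyπ_eq_zero_iff hi]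
    exact ⟨e i y, by rw [← hd, hy, map_sub, map_sub, map_sub, hw, hw]⟩
  let φ : K.homology j → K'.homology j := fun η => K'.homologyπ j (w (Function.surjInv hsurj η))
  have hφ : ∀ z, φ (K.homologyπ j z) = K'.homologyπ j (w z) := fun z => key _ _ (Function.surjInv_eq hsurj _)
  have hadd : ∀ a b, φ (a + b) = φ a + φ b := fun a b => by
    obtain ⟨z, rfl⟩ := hsurj a
    obtain ⟨z', rfl⟩ := hsurj b
    rw [← map_add, hφ, hφ, hφ, ← map_add]
    refine congrArg _ (DMod.iCycles_injective K' j ?_)
    rw [hw, map_add, map_add, map_add, hw, hw]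
  have hsm : ∀ (r : A) a, φ (r • a) = σ r • φ a := fun r a => by
    obtain ⟨z, rfl⟩ := hsurj a
    rw [← map_smul, hφ, hφ, ← map_smul]
    refine congrArg _ (DMod.iCycles_injective K' j ?_)
    rw [hw, map_smul (K.iCycles j).hom, hsmul, map_smul (K'.iCycles j).hom, hw]
  refine ⟨{ toFun := φ, map_add' := hadd, map_smul' := hsm }, fun a b h => ?_, fun η => ?_⟩
  · obtain ⟨z, rfl⟩ := hsurj a
    obtain ⟨z', rfl⟩ := hsurj b
    have h' : K'.homologyπ j (w z) = K'.homologyπ j (w z') := (hφ z).symm.trans (h.trans (hφ z'))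
    rw [← sub_eq_zero, ← map_sub, DMod.homologyπ_eq_zero_iff hi] at h'
    obtain ⟨y, hy⟩ := h'
    rw [← sub_eq_zero, ← map_sub, DMod.homologyπ_eq_zero_iff hi]
    refine ⟨(e i).symm y, (e j).injective ?_⟩
    rw [hd, AddEquiv.apply_symm_apply, hy, map_sub, map_sub, map_sub, hw, hw]
  · obtain ⟨z', rfl⟩ := DMod.homologyπ_surjective K' j η
    obtain ⟨z, hz⟩ := DMod.exists_cycle hk ((e j).symm (K'.iCycles j z')) (show K.d j k _ = 0 from
      (e k).injective (by rw [hd, AddEquiv.apply_symm_apply, DMod.d_iCycles, map_zero]))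
    refine ⟨K.homologyπ j z, (hφ z).trans (congrArg _ (DMod.iCycles_injective K' j ?_))⟩
    rw [hw, hz, AddEquiv.apply_symm_apply]

variable [Algebra A A']

variable (A A') in
/-- Base change of modules. -/
def BC : ModuleCat.{u} A ⥤ ModuleCat.{u} A' where
  obj Q := ModuleCat.of A' (A' ⊗[A] Q)
  map f := ModuleCat.ofHom (f.hom.baseChange A')
  map_id Q := ModuleCat.hom_ext (LinearMap.baseChange_id (A := A'))
  map_comp f g := ModuleCat.hom_ext (LinearMap.baseChange_comp (A := A') (f := f.hom) g.hom)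

instance : (BC A A').Additive where
  map_add {X Y f g} := ModuleCat.hom_ext (LinearMap.baseChange_add (A := A') (f := f.hom) (g := g.hom))

theorem quasiIso_bcAug (Q : ModuleCat.{u} A)
    (hQ : ∀ q : ℕ, IsZero (((Tor (ModuleCat.{u} A) (q + 1)).obj (ModuleCat.of A A')).obj Q))
    (π : ((BC A A').mapHomologicalComplex _).obj (cx Q) ⟶ (ChainComplex.single₀ (ModuleCat.{u} A')).obj ((BC A A').obj Q))
    (hπ : π.f 0 = (BC A A').map (ModuleCat.ofHom (ev Q))) : QuasiIso π := by
  rw [quasiIso_iff]
  intro i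
  cases i with
  | zero =>
    rw [quasiIsoAt_iff_isIso_homologyMap, ConcreteCategory.isIso_iff_bijective]
    refine DMod.homologyMap_bijective_of _ (ChainComplex.prev ℕ 0) ChainComplex.next_nat_zero ?_ ?_
    · intro x _
      obtain ⟨w, hw⟩ := LinearMap.lTensor_surjective A' (ev_surjective Q) x
      refine ⟨w, 0, ?_, ?_⟩
      · rw [HomologicalComplex.shape _ 0 0 (by simp)]; rfl
      · rw [hπ, map_zero, add_zero]
        exact hw
    · intro w y _ hy
      rw [hπ] at hy
      have hw : (ev Q).lTensor A' w = 0 := by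
        refine hy.symm.trans ?_
        simp only [HomologicalComplex.single_obj_d]
        rfl
      obtain ⟨c, hc⟩ := (lTensor_exact A' (exact_inc_ev Q) (ev_surjective Q) _).1 hw
      obtain ⟨v, hv⟩ := LinearMap.lTensor_surjective A' (ev_surjective ((K A).obj Q)) c
      refine ⟨v, Eq.trans ?_ hc⟩
      show ((BC A A').map ((cx Q).d 1 0)).hom v = _
      rw [cx_d]
      show (inc Q ∘ₗ ev ((K A).obj Q)).lTensor A' v = _
      rw [LinearMap.lTensor_comp, LinearMap.comp_apply, hv]
  | succ i =>
    rw [quasiIsoAt_iff_exactAt' _ _ (ChainComplex.exactAt_succ_single_obj ..), DMod.exactAt_iff_subsingleton,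
      DMod.subsingleton_homology_iff (i := i + 2) (k := i) _ (ChainComplex.prev ℕ (i + 1)) (ChainComplex.next_nat_succ i)]
    have h0 : Subsingleton ((tcxR (ModuleCat.of A A') Q).homology (i + 1)) :=
      (DMod.isZero_iff_subsingleton _).1 ((hQ i).of_iso (torIso (i + 1) (ModuleCat.of A A') Q).symm)
    rw [DMod.subsingleton_homology_iff (i := i + 2) (k := i) _ (ChainComplex.prev ℕ (i + 1)) (ChainComplex.next_nat_succ i)] at h0
    exact fun x hx => h0 x hx

/-- The base changed resolution. -/
theorem exists_bc_resolution (Q : ModuleCat.{u} A)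
    (hQ : ∀ q : ℕ, IsZero (((Tor (ModuleCat.{u} A) (q + 1)).obj (ModuleCat.of A A')).obj Q)) :
    ∃ P : ProjectiveResolution ((BC A A').obj Q), P.complex = ((BC A A').mapHomologicalComplex _).obj (cx Q) := by
  let C := ((BC A A').mapHomologicalComplex _).obj (cx Q)
  have h : C.d 1 0 ≫ (BC A A').map (ModuleCat.ofHom (ev Q)) = 0 := by
    show (BC A A').map ((cx Q).d 1 0) ≫ _ = 0
    rw [← Functor.map_comp, cx_d]
    refine (congrArg _ ?_).trans ((BC A A').map_zero _ _)
    exact ModuleCat.hom_ext (LinearMap.ext fun x => LinearMap.congr_fun (ev_comp_inc Q) _)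
  exact ⟨{ complex := C
           projective := fun i => by
            haveI : Module.Free A' (A' ⊗[A] (F A).obj ((Kp A i).obj Q)) := inferInstance
            exact (IsProjective.iff_projective (R := A') (A' ⊗[A] (F A).obj ((Kp A i).obj Q))).1 inferInstance
           π := (ChainComplex.toSingle₀Equiv C _).symm ⟨_, h⟩
           quasiIso := quasiIso_bcAug Q hQ _ (ChainComplex.toSingle₀Equiv_symm_apply_f_zero _ _) }, rfl⟩

theorem exists_semilinear_left (P' : Type u) [AddCommGroup P'] [Module A' P'] [Module A P'] [IsScalarTower A A' P']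
    (Q : Type u) [AddCommGroup Q] [Module A Q]
    (hQ : ∀ q : ℕ, IsZero (((Tor (ModuleCat.{u} A) (q + 1)).obj (ModuleCat.of A A')).obj (ModuleCat.of A Q))) (n : ℕ) :
    ∃ φ : DRing.Tor A n P' Q →ₛₗ[algebraMap A A'] DRing.Tor A' n P' (A' ⊗[A] Q), Function.Bijective φ := by
  obtain ⟨P, hP⟩ := exists_bc_resolution (A' := A') (ModuleCat.of A Q) hQ
  let G := (tensoringLeft (ModuleCat.{u} A')).obj (ModuleCat.of A' P')
  let e' := P.isoLeftDerivedObj G n ≪≫
    (HomologicalComplex.homologyFunctor _ _ n).mapIso ((G.mapHomologicalComplex _).mapIso (eqToIso hP))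
  let eI := torIso n (ModuleCat.of A P') (ModuleCat.of A Q)
  obtain ⟨φ, hφ⟩ := exists_semilinear_homology (algebraMap A A') (tcxR (ModuleCat.of A P') (ModuleCat.of A Q))
    ((G.mapHomologicalComplex _).obj (((BC A A').mapHomologicalComplex _).obj (cx (ModuleCat.of A Q))))
    (j := n) rfl rfl
    (fun i => (TensorProduct.AlgebraTensorModule.cancelBaseChange A A' A' P'
      ((F A).obj ((Kp A i).obj (ModuleCat.of A Q)))).symm.toAddEquiv)
    (fun i a x => by
      show (TensorProduct.AlgebraTensorModule.cancelBaseChange A A' A' P' _).symm (a • x) = algebraMap A A' a •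
        (TensorProduct.AlgebraTensorModule.cancelBaseChange A A' A' P' _).symm x
      rw [← map_smul, algebraMap_smul]; rfl)
    (fun i l x => by
      show (TensorProduct.AlgebraTensorModule.cancelBaseChange A A' A' P' _).symm
          (LinearMap.lTensor P' ((cx (ModuleCat.of A Q)).d i l).hom x) =
        LinearMap.lTensor P' (((cx (ModuleCat.of A Q)).d i l).hom.baseChange A')
          ((TensorProduct.AlgebraTensorModule.cancelBaseChange A A' A' P' _).symm x)
      induction x using TensorProduct.induction_on with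
      | zero => simp
      | add a b ha hb => simp only [map_add, ha, hb]
      | tmul p q => simp)
  refine ⟨e'.toLinearEquiv.symm.toLinearMap.comp (φ.comp eI.toLinearEquiv.toLinearMap), ?_⟩
  exact e'.toLinearEquiv.symm.bijective.comp (hφ.comp eI.toLinearEquiv.bijective)

theorem isZero_tor_of_flat [Module.Flat A A'] (Q : ModuleCat.{u} A) (q : ℕ) :
    IsZero (((Tor (ModuleCat.{u} A) (q + 1)).obj (ModuleCat.of A A')).obj Q) := by
  refine IsZero.of_iso ?_ (torIso (q + 1) (ModuleCat.of A A') Q)
  rw [DMod.isZero_iff_subsingleton]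
  refine ⟨fun a b => phi_injective _ _ _ ?_⟩
  have hker : LinearMap.ker ((inc ((Kp A q).obj Q)).lTensor A') = ⊥ :=
    LinearMap.ker_eq_bot.2 (Module.Flat.lTensor_preserves_injective_linearMap _ (inc_injective _))
  have h : ∀ η, phi (ModuleCat.of A A') Q (q + 1) η = 0 := fun η => by
    have hη := (range_phi_succ (ModuleCat.of A A') Q q).le ⟨η, rfl⟩
    exact (hker.le hη :)
  rw [h a, h b]

theorem exists_semilinear_left_of_flat [Module.Flat A A'] (P' : Type u) [AddCommGroup P'] [Module A' P'] [Module A P']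
    [IsScalarTower A A' P'] (Q : Type u) [AddCommGroup Q] [Module A Q] (n : ℕ) :
    ∃ φ : DRing.Tor A n P' Q →ₛₗ[algebraMap A A'] DRing.Tor A' n P' (A' ⊗[A] Q), Function.Bijective φ :=
  exists_semilinear_left P' Q (isZero_tor_of_flat _) n

theorem exists_semilinear_localization (S : Submonoid A) [IsLocalization S A'] (P Q : Type u)
    [AddCommGroup P] [Module A' P] [Module A P] [IsScalarTower A A' P]
    [AddCommGroup Q] [Module A' Q] [Module A Q] [IsScalarTower A A' Q] (n : ℕ) :
    ∃ φ : DRing.Tor A n P Q →ₛₗ[algebraMap A A'] DRing.Tor A' n P Q, Function.Bijective φ := by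
  haveI : Module.Flat A A' := IsLocalization.flat A' S
  obtain ⟨φ, hφ⟩ := exists_semilinear_left_of_flat (A := A) (A' := A') P Q n
  let e := (((Tor (ModuleCat.{u} A') n).obj (ModuleCat.of A' P)).mapIso
    (IsLocalization.moduleLid S A' (M₁ := Q)).toModuleIso).toLinearEquiv
  exact ⟨e.toLinearMap.comp φ, e.bijective.comp hφ⟩

theorem exists_semilinear_right (P : Type u) [AddCommGroup P] [Module A P] (Q' : Type u) [AddCommGroup Q']
    [Module A' Q'] [Module A Q'] [IsScalarTower A A' Q']
    (hP : ∀ q : ℕ, 0 < q → Subsingleton (DRing.Tor A q P A')) (n : ℕ) :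
    ∃ φ : DRing.Tor A n P Q' →ₛₗ[algebraMap A A'] DRing.Tor A' n (A' ⊗[A] P) Q', Function.Bijective φ := by
  obtain ⟨bA⟩ := nonempty_tor_iso_flip (R := A) n
  obtain ⟨bA'⟩ := nonempty_tor_iso_flip (R := A') n
  have hQ : ∀ q : ℕ, IsZero (((Tor (ModuleCat.{u} A) (q + 1)).obj (ModuleCat.of A A')).obj (ModuleCat.of A P)) := fun q => by
    obtain ⟨b⟩ := nonempty_tor_iso_flip (R := A) (q + 1)
    exact ((DMod.isZero_iff_subsingleton _).2 (hP (q + 1) (Nat.succ_pos q))).of_iso
      ((b.app (ModuleCat.of A A')).app (ModuleCat.of A P))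
  obtain ⟨φ, hφ⟩ := exists_semilinear_left (A' := A') Q' P hQ n
  let e₁ := ((bA.app (ModuleCat.of A P)).app (ModuleCat.of A Q')).toLinearEquiv
  let e₂ := ((bA'.app (ModuleCat.of A' (A' ⊗[A] P))).app (ModuleCat.of A' Q')).toLinearEquiv
  exact ⟨e₂.symm.toLinearMap.comp (φ.comp e₁.toLinearMap), e₂.symm.bijective.comp (hφ.comp e₁.bijective)⟩

end Groth.Agent.TorBal27
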