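import Groth.Agent.Lib.TorBal27.Syzygy
import Mathlib.CategoryTheory.Monoidal.Tor
import Mathlib.CategoryTheory.Functor.Currying
import Mathlib.CategoryTheory.Monoidal.Preadditive
import Mathlib.Algebra.Category.ModuleCat.Monoidal.Symmetric

/-!
# Balance of `Tor`, naturally in both variables
-/

set_option autoImplicit false
universe u

open CategoryTheory CategoryTheory.Limits MonoidalCategory TensorProduct

noncomputable section

namespace Groth.Agent.TorBal27

variable {R : Type u} [CommRing R]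

/-- `M ⊗ F•N`. -/
def tcxR (M N : ModuleCat.{u} R) : ChainComplex (ModuleCat.{u} R) ℕ :=
  (((tensoringLeft (ModuleCat.{u} R)).obj M).mapHomologicalComplex _).obj (cx N)

theorem tcxR_d (M N : ModuleCat.{u} R) (n : ℕ)
    (x : M ⊗[R] (F R).obj ((Kp R (n + 1)).obj N)) :
    (tcxR M N).d (n + 1) n x = (inc ((Kp R n).obj N) ∘ₗ ev ((K R).obj ((Kp R n).obj N))).lTensor M x := by
  show ((((tensoringLeft (ModuleCat.{u} R)).obj M).map ((cx N).d (n + 1) n))).hom x = _
  rw [cx_d]
  rfl

/-- A cycle goes to the tensor product with the syzygy. -/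
def cycMap (M N : ModuleCat.{u} R) (n : ℕ) : (tcxR M N).cycles n →ₗ[R] M ⊗[R] (Kp R n).obj N :=
  (ev ((Kp R n).obj N)).lTensor M ∘ₗ ((tcxR M N).iCycles n).hom

theorem ker_cycMap (M N : ModuleCat.{u} R) (n : ℕ) :
    LinearMap.ker ((tcxR M N).homologyπ n).hom = LinearMap.ker (cycMap M N n) := by
  ext z
  rw [LinearMap.mem_ker, LinearMap.mem_ker]
  refine (DMod.homologyπ_eq_zero_iff (i := n + 1) (ChainComplex.prev ℕ n) z).trans ?_
  constructor
  · rintro ⟨y, hy⟩
    show (ev _).lTensor M ((tcxR M N).iCycles n z) = 0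
    rw [← hy]
    refine (congrArg ((ev ((Kp R n).obj N)).lTensor M) (tcxR_d M N n y)).trans ?_
    rw [LinearMap.lTensor_comp]
    exact lT_lT_zero _ _ (ev_comp_inc _) _
  · intro h
    obtain ⟨w, hw⟩ := (lTensor_exact M (exact_inc_ev ((Kp R n).obj N)) (ev_surjective _) _).1 h
    obtain ⟨y, hy⟩ := LinearMap.lTensor_surjective M (ev_surjective ((K R).obj ((Kp R n).obj N))) w
    refine ⟨y, (tcxR_d M N n y).trans ?_⟩
    rw [LinearMap.lTensor_comp, LinearMap.comp_apply, hy]
    exact hw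

/-- The comparison map. -/
def phi (M N : ModuleCat.{u} R) (n : ℕ) : (tcxR M N).homology n →ₗ[R] M ⊗[R] (Kp R n).obj N :=
  (LinearMap.ker ((tcxR M N).homologyπ n).hom).liftQ (cycMap M N n) (ker_cycMap M N n).le ∘ₗ
    (LinearMap.quotKerEquivOfSurjective ((tcxR M N).homologyπ n).hom
      (DMod.homologyπ_surjective (tcxR M N) n)).symm.toLinearMap

theorem phi_π (M N : ModuleCat.{u} R) (n : ℕ) (z : (tcxR M N).cycles n) :
    phi M N n ((tcxR M N).homologyπ n z) = (ev ((Kp R n).obj N)).lTensor M ((tcxR M N).iCycles n z) := by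
  have h : (LinearMap.quotKerEquivOfSurjective ((tcxR M N).homologyπ n).hom
      (DMod.homologyπ_surjective (tcxR M N) n)).symm ((tcxR M N).homologyπ n z) = Submodule.Quotient.mk z := by
    rw [LinearEquiv.symm_apply_eq]
    rfl
  exact (congrArg ((LinearMap.ker ((tcxR M N).homologyπ n).hom).liftQ (cycMap M N n) (ker_cycMap M N n).le) h).trans rfl

theorem phi_injective (M N : ModuleCat.{u} R) (n : ℕ) : Function.Injective (phi M N n) := by
  rw [injective_iff_map_eq_zero]
  intro η hη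
  obtain ⟨z, rfl⟩ := DMod.homologyπ_surjective (tcxR M N) n η
  rw [phi_π] at hη
  exact (ker_cycMap M N n).ge (hη : cycMap M N n z = 0)

theorem phi_zero_surjective (M N : ModuleCat.{u} R) : Function.Surjective (phi M N 0) := by
  intro y
  obtain ⟨x, hx⟩ := LinearMap.lTensor_surjective M (ev_surjective N) y
  obtain ⟨z, hz⟩ := DMod.exists_cycle (K := tcxR M N) ChainComplex.next_nat_zero x (by
    rw [(tcxR M N).shape 0 0 (by simp)]; rfl)
  exact ⟨(tcxR M N).homologyπ 0 z, (phi_π M N 0 z).trans (by rw [hz]; exact hx)⟩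

theorem range_phi_succ (M N : ModuleCat.{u} R) (n : ℕ) :
    LinearMap.range (phi M N (n + 1)) = LinearMap.ker ((inc ((Kp R n).obj N)).lTensor M) := by
  ext y
  constructor
  · rintro ⟨η, rfl⟩
    obtain ⟨z, rfl⟩ := DMod.homologyπ_surjective (tcxR M N) (n + 1) η
    show (inc ((Kp R n).obj N)).lTensor M (phi M N (n + 1) ((tcxR M N).homologyπ (n + 1) z)) = 0
    refine (congrArg ((inc ((Kp R n).obj N)).lTensor M) (phi_π M N (n + 1) z)).trans ?_
    refine Eq.trans ?_ ((tcxR_d M N n _).symm.trans (DMod.d_iCycles (K := tcxR M N) (n + 1) n z))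
    rw [LinearMap.lTensor_comp]
    rfl
  · intro hy
    obtain ⟨x, hx⟩ := LinearMap.lTensor_surjective M (ev_surjective ((K R).obj ((Kp R n).obj N))) y
    obtain ⟨z, hz⟩ := DMod.exists_cycle (K := tcxR M N) (ChainComplex.next_nat_succ n) x (by
      refine (tcxR_d M N n x).trans ?_
      rw [LinearMap.lTensor_comp, LinearMap.comp_apply, hx]
      exact hy)
    exact ⟨(tcxR M N).homologyπ (n + 1) z, (phi_π M N (n + 1) z).trans (by rw [hz]; exact hx)⟩

/-- The map of the complexes `M ⊗ F•N`. -/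
def tcxMap {M M' N N' : ModuleCat.{u} R} (f : M ⟶ M') (g : N ⟶ N') : tcxR M N ⟶ tcxR M' N' :=
  (NatTrans.mapHomologicalComplex ((tensoringLeft (ModuleCat.{u} R)).map f) _).app (cx N) ≫
    (((tensoringLeft (ModuleCat.{u} R)).obj M').mapHomologicalComplex _).map (cxMap g)

theorem tcxMap_f {M M' N N' : ModuleCat.{u} R} (f : M ⟶ M') (g : N ⟶ N') (n : ℕ)
    (x : M ⊗[R] (F R).obj ((Kp R n).obj N)) :
    (tcxMap f g).f n x = TensorProduct.map f.hom ((F R).map ((Kp R n).map g)).hom x := by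
  show LinearMap.lTensor M' ((F R).map ((Kp R n).map g)).hom (LinearMap.rTensor _ f.hom x) = _
  rw [← LinearMap.comp_apply, LinearMap.lTensor_comp_rTensor]

theorem phi_natural {M M' N N' : ModuleCat.{u} R} (f : M ⟶ M') (g : N ⟶ N') (n : ℕ)
    (η : (tcxR M N).homology n) :
    phi M' N' n (HomologicalComplex.homologyMap (tcxMap f g) n η) =
      TensorProduct.map f.hom ((Kp R n).map g).hom (phi M N n η) := by
  obtain ⟨z, rfl⟩ := DMod.homologyπ_surjective (tcxR M N) n η
  rw [DMod.homologyMap_π, phi_π, phi_π]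
  refine (congrArg ((ev _).lTensor _) ((DMod.iCycles_cyclesMap (tcxMap f g) n z).trans (tcxMap_f f g n _))).trans ?_
  rw [← LinearMap.comp_apply, LinearMap.lTensor_comp_map, ev_comp_map, ← LinearMap.map_comp_lTensor,
    LinearMap.comp_apply]

/-- `Tor` through the functorial resolution. -/
def torIso (n : ℕ) (M N : ModuleCat.{u} R) :
    ((Tor (ModuleCat.{u} R) n).obj M).obj N ≅ (tcxR M N).homology n :=
  (res N).isoLeftDerivedObj ((tensoringLeft (ModuleCat.{u} R)).obj M) n

theorem torIso_natural (n : ℕ) {M M' N N' : ModuleCat.{u} R} (f : M ⟶ M') (g : N ⟶ N') :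
    (((Tor (ModuleCat.{u} R) n).map f).app N ≫ ((Tor (ModuleCat.{u} R) n).obj M').map g) ≫ (torIso n M' N').hom =
      (torIso n M N).hom ≫ HomologicalComplex.homologyMap (tcxMap f g) n := by
  have h1 := ProjectiveResolution.leftDerived_app_eq ((tensoringLeft (ModuleCat.{u} R)).map f) (res N) n
  have h2 := ProjectiveResolution.isoLeftDerivedObj_hom_naturality g (res N) (res N') (cxMap g) (cxMap_comm g)
    ((tensoringLeft (ModuleCat.{u} R)).obj M') n
  refine (Category.assoc _ _ _).trans ((congrArg ((NatTrans.leftDerived ((tensoringLeft (ModuleCat.{u} R)).map f) n).app N ≫ ·) h2).trans ?_)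
  rw [h1]
  refine Eq.trans ?_ (congrArg ((torIso n M N).hom ≫ ·) (HomologicalComplex.homologyMap_comp _ _ n).symm)
  simp only [Category.assoc, Iso.inv_hom_id_assoc]
  rfl

variable (R) in
/-- The higher `Tor` as the first one of a syzygy. -/
def torSuccIso (n : ℕ) :
    CategoryTheory.Functor.uncurry.obj (Tor (ModuleCat.{u} R) (n + 1)) ≅ (Kp R 0).prod (Kp R n) ⋙ T1R R :=
  NatIso.ofComponents
    (fun X => torIso (n + 1) X.1 X.2 ≪≫
      ((LinearEquiv.ofInjective _ (phi_injective X.1 X.2 (n + 1))).trans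
        (LinearEquiv.ofEq _ _ (range_phi_succ X.1 X.2 n))).toModuleIso)
    fun {X Y} φ => by
      refine ModuleCat.hom_ext (LinearMap.ext fun η => Subtype.ext ?_)
      show phi Y.1 Y.2 (n + 1) ((((Tor (ModuleCat.{u} R) (n + 1)).map φ.1).app X.2 ≫
        ((Tor (ModuleCat.{u} R) (n + 1)).obj Y.1).map φ.2) ≫ (torIso (n + 1) Y.1 Y.2).hom |>.hom η) =
        TensorProduct.map φ.1.hom ((Kp R (n + 1)).map φ.2).hom (phi X.1 X.2 (n + 1) ((torIso (n + 1) X.1 X.2).hom η))
      rw [torIso_natural]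
      exact phi_natural φ.1 φ.2 (n + 1) _

variable (R) in
/-- The bifunctor `M ⊗ N`. -/
def T0 : ModuleCat.{u} R × ModuleCat.{u} R ⥤ ModuleCat.{u} R := CategoryTheory.Functor.uncurry.obj (tensoringLeft (ModuleCat.{u} R))

variable (R) in
/-- `Tor₀`. -/
def torZeroIso : CategoryTheory.Functor.uncurry.obj (Tor (ModuleCat.{u} R) 0) ≅ T0 R :=
  NatIso.ofComponents
    (fun X => torIso 0 X.1 X.2 ≪≫
      (LinearEquiv.ofBijective _ ⟨phi_injective X.1 X.2 0, phi_zero_surjective X.1 X.2⟩).toModuleIso)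
    fun {X Y} φ => by
      refine ModuleCat.hom_ext (LinearMap.ext fun η => ?_)
      show phi Y.1 Y.2 0 ((((Tor (ModuleCat.{u} R) 0).map φ.1).app X.2 ≫
        ((Tor (ModuleCat.{u} R) 0).obj Y.1).map φ.2) ≫ (torIso 0 Y.1 Y.2).hom |>.hom η) =
        LinearMap.lTensor Y.1 φ.2.hom (LinearMap.rTensor X.2 φ.1.hom (phi X.1 X.2 0 ((torIso 0 X.1 X.2).hom η)))
      rw [torIso_natural]
      refine (phi_natural φ.1 φ.2 0 _).trans ?_
      exact (LinearMap.congr_fun (LinearMap.lTensor_comp_rTensor _ φ.1.hom φ.2.hom) _).symm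

theorem comm_map {A B C D : Type u} [AddCommGroup A] [Module R A] [AddCommGroup B] [Module R B]
    [AddCommGroup C] [Module R C] [AddCommGroup D] [Module R D] (f : A →ₗ[R] B) (g : C →ₗ[R] D) (z : A ⊗[R] C) :
    TensorProduct.comm R B D (TensorProduct.map f g z) = TensorProduct.map g f (TensorProduct.comm R A C z) :=
  LinearMap.congr_fun (TensorProduct.ext' fun a c => rfl :
    (TensorProduct.comm R B D).toLinearMap ∘ₗ TensorProduct.map f g =
      TensorProduct.map g f ∘ₗ (TensorProduct.comm R A C).toLinearMap) z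

theorem map_comm_ker (X : ModuleCat.{u} R × ModuleCat.{u} R) :
    (LinearMap.ker ((inc X.1).rTensor X.2)).map (TensorProduct.comm R ((K R).obj X.1) X.2).toLinearMap =
      LinearMap.ker ((inc X.1).lTensor X.2) := by
  ext y
  rw [Submodule.mem_map_equiv]
  obtain ⟨z, rfl⟩ := (TensorProduct.comm R ((K R).obj X.1) X.2).surjective y
  rw [LinearEquiv.symm_apply_apply, LinearMap.mem_ker, LinearMap.mem_ker,
    show (inc X.1).lTensor X.2 (TensorProduct.comm R _ _ z) = TensorProduct.comm R _ _ ((inc X.1).rTensor X.2 z) from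
      (comm_map (inc X.1) LinearMap.id z).symm, LinearEquiv.map_eq_zero_iff]

variable (R) in
/-- Exchanging the two sides. -/
def commIso : T1L R ≅ CategoryTheory.Prod.swap _ _ ⋙ T1R R :=
  NatIso.ofComponents
    (fun X => (((TensorProduct.comm R ((K R).obj X.1) X.2).submoduleMap _).trans
      (LinearEquiv.ofEq _ _ (map_comm_ker X))).toModuleIso)
    fun {X Y} φ => ModuleCat.hom_ext (LinearMap.ext fun z => Subtype.ext (comm_map _ _ _))

variable (R) in
/-- The symmetry of `Tor₀`. -/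
def commZero : T0 R ≅ CategoryTheory.Prod.swap _ _ ⋙ T0 R :=
  NatIso.ofComponents (fun X => (TensorProduct.comm R X.1 X.2).toModuleIso) fun {X Y} φ => by
    refine ModuleCat.hom_ext (LinearMap.ext fun z => ?_)
    show TensorProduct.comm R Y.1 Y.2 (LinearMap.lTensor Y.1 φ.2.hom (LinearMap.rTensor X.2 φ.1.hom z)) =
      LinearMap.lTensor Y.2 φ.1.hom (LinearMap.rTensor X.1 φ.2.hom (TensorProduct.comm R X.1 X.2 z))
    rw [← LinearMap.comp_apply (LinearMap.lTensor _ _), ← LinearMap.comp_apply (LinearMap.lTensor _ _),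
      LinearMap.lTensor_comp_rTensor, LinearMap.lTensor_comp_rTensor]
    exact comm_map _ _ _

theorem nonempty_uncurry_tor_iso_swap (n : ℕ) :
    Nonempty (CategoryTheory.Functor.uncurry.obj (Tor (ModuleCat.{u} R) n) ≅ CategoryTheory.Prod.swap _ _ ⋙ CategoryTheory.Functor.uncurry.obj (Tor (ModuleCat.{u} R) n)) := by
  cases n with
  | zero => exact ⟨torZeroIso R ≪≫ commZero R ≪≫ Functor.isoWhiskerLeft _ (torZeroIso R).symm⟩
  | succ n =>
    obtain ⟨e⟩ := chain (R := R) n 0
    rw [Nat.zero_add] at e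
    exact ⟨torSuccIso R n ≪≫ e ≪≫ Functor.isoWhiskerLeft ((Kp R n).prod (Kp R 0)) ((sigma R).symm ≪≫ commIso R) ≪≫
      Functor.isoWhiskerLeft (CategoryTheory.Prod.swap _ _) (torSuccIso R n).symm⟩

theorem nonempty_tor_iso_flip (n : ℕ) :
    Nonempty (Tor (ModuleCat.{u} R) n ≅ (Tor (ModuleCat.{u} R) n).flip) := by
  obtain ⟨e⟩ := nonempty_uncurry_tor_iso_swap (R := R) n
  refine ⟨NatIso.ofComponents (fun M => NatIso.ofComponents (fun N => e.app (M, N)) fun {N N'} g => ?_) fun {M M'} f => ?_⟩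
  · have h : (((Tor (ModuleCat.{u} R) n).map (𝟙 M)).app N ≫ ((Tor (ModuleCat.{u} R) n).obj M).map g) ≫ e.hom.app (M, N') =
        e.hom.app (M, N) ≫ (((Tor (ModuleCat.{u} R) n).map g).app M ≫ ((Tor (ModuleCat.{u} R) n).obj N').map (𝟙 M)) :=
      e.hom.naturality ((𝟙 M, g) : (M, N) ⟶ (M, N'))
    rw [CategoryTheory.Functor.map_id, NatTrans.id_app, Category.id_comp, CategoryTheory.Functor.map_id,
      Category.comp_id] at h
    exact h
  · refine NatTrans.ext (funext fun N => ?_)
    have h : (((Tor (ModuleCat.{u} R) n).map f).app N ≫ ((Tor (ModuleCat.{u} R) n).obj M').map (𝟙 N)) ≫ e.hom.app (M', N) =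
        e.hom.app (M, N) ≫ (((Tor (ModuleCat.{u} R) n).map (𝟙 N)).app M ≫ ((Tor (ModuleCat.{u} R) n).obj N).map f) :=
      e.hom.naturality ((f, 𝟙 N) : (M, N) ⟶ (M', N))
    rw [CategoryTheory.Functor.map_id, Category.comp_id, CategoryTheory.Functor.map_id, NatTrans.id_app] at h
    exact h.trans (congrArg (e.hom.app (M, N) ≫ ·) (Category.id_comp _))

end Groth.Agent.TorBal27
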