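import Groth.Agent.Lib.DMod.Homology
import Mathlib.Algebra.Category.ModuleCat.Projective
import Mathlib.CategoryTheory.Abelian.Projective.Resolution
import Mathlib.Algebra.Category.ModuleCat.Monoidal.Basic
import Mathlib.CategoryTheory.Products.Basic
import Mathlib.LinearAlgebra.TensorProduct.RightExactness
import Mathlib.RingTheory.Flat.Basic

/-!
# Functorial free resolutions of modules and the balance of the first torsion group
-/

set_option autoImplicit false
universe u

open CategoryTheory CategoryTheory.Limits TensorProduct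

noncomputable section

namespace Groth.Agent.TorBal27

variable (R : Type u) [CommRing R]

/-- The free module on the underlying set. -/
def F : ModuleCat.{u} R ⥤ ModuleCat.{u} R where
  obj M := ModuleCat.of R (M →₀ R)
  map f := ModuleCat.ofHom (Finsupp.lmapDomain R R f.hom)
  map_id M := ModuleCat.hom_ext (Finsupp.lmapDomain_id _ _)
  map_comp f g := ModuleCat.hom_ext (Finsupp.lmapDomain_comp R R f.hom g.hom)

variable {R}

/-- The evaluation map. -/
def ev (M : ModuleCat.{u} R) : (F R).obj M →ₗ[R] M := Finsupp.linearCombination R id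

theorem ev_single (M : ModuleCat.{u} R) (m : M) (r : R) : ev M (Finsupp.single m r : M →₀ R) = r • m :=
  Finsupp.linearCombination_single R r m

theorem ev_surjective (M : ModuleCat.{u} R) : Function.Surjective (ev M) :=
  fun m => ⟨(Finsupp.single m 1 : M →₀ R), (ev_single M m 1).trans (one_smul R m)⟩

theorem ev_comp_map {M N : ModuleCat.{u} R} (f : M ⟶ N) :
    ev N ∘ₗ ((F R).map f).hom = f.hom ∘ₗ ev M := by
  refine Finsupp.lhom_ext fun m r => ?_
  show ev N (Finsupp.mapDomain f.hom (Finsupp.single m r) : N →₀ R) = f.hom (ev M (Finsupp.single m r : M →₀ R))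
  exact (congrArg (ev N) (Finsupp.mapDomain_single : _ = (Finsupp.single (f.hom m) r : N →₀ R))).trans
    ((ev_single N _ r).trans (((congrArg f.hom (ev_single M m r)).trans (map_smul _ r m)).symm))

variable (R) in
/-- The syzygy. -/
def K : ModuleCat.{u} R ⥤ ModuleCat.{u} R where
  obj M := ModuleCat.of R (LinearMap.ker (ev M))
  map {M N} f := ModuleCat.ofHom (((F R).map f).hom.restrict fun x hx => by
    rw [LinearMap.mem_ker] at hx ⊢
    exact (LinearMap.congr_fun (ev_comp_map f) x).trans ((congrArg f.hom hx).trans (map_zero _)))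
  map_id M := ModuleCat.hom_ext (LinearMap.ext fun x => Subtype.ext
    (LinearMap.congr_fun (congrArg ModuleCat.Hom.hom ((F R).map_id M)) x.1))
  map_comp f g := ModuleCat.hom_ext (LinearMap.ext fun x => Subtype.ext
    (LinearMap.congr_fun (congrArg ModuleCat.Hom.hom ((F R).map_comp f g)) x.1))

/-- The inclusion of the syzygy. -/
def inc (M : ModuleCat.{u} R) : (K R).obj M →ₗ[R] (F R).obj M := (LinearMap.ker (ev M)).subtype

theorem inc_injective (M : ModuleCat.{u} R) : Function.Injective (inc M) := Subtype.val_injective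

theorem exact_inc_ev (M : ModuleCat.{u} R) : Function.Exact (inc M) (ev M) :=
  LinearMap.exact_subtype_ker_map (ev M)

theorem inc_comp_map {M N : ModuleCat.{u} R} (f : M ⟶ N) :
    inc N ∘ₗ ((K R).map f).hom = ((F R).map f).hom ∘ₗ inc M := rfl

theorem ev_comp_inc (M : ModuleCat.{u} R) : ev M ∘ₗ inc M = 0 :=
  LinearMap.ext fun x => x.2

instance free_F (M : ModuleCat.{u} R) : Module.Free R ((F R).obj M) :=
  inferInstanceAs (Module.Free R (M →₀ R))

instance flat_F (M : ModuleCat.{u} R) : Module.Flat R ((F R).obj M) := Module.Flat.of_free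

instance projective_F (M : ModuleCat.{u} R) : CategoryTheory.Projective ((F R).obj M) :=
  (IsProjective.iff_projective (R := R) ((F R).obj M)).1 inferInstance

variable (R) in
/-- Iterated syzygies. -/
def Kp : ℕ → ModuleCat.{u} R ⥤ ModuleCat.{u} R
  | 0 => 𝟭 _
  | n + 1 => Kp n ⋙ K R

/-- The differential of the free resolution. -/
def dF (M : ModuleCat.{u} R) (n : ℕ) : (F R).obj ((Kp R (n + 1)).obj M) ⟶ (F R).obj ((Kp R n).obj M) :=
  ModuleCat.ofHom (inc ((Kp R n).obj M) ∘ₗ ev ((K R).obj ((Kp R n).obj M)))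

/-- The free resolution. -/
def cx (M : ModuleCat.{u} R) : ChainComplex (ModuleCat.{u} R) ℕ :=
  ChainComplex.of (fun n => (F R).obj ((Kp R n).obj M)) (dF M) fun n => ModuleCat.hom_ext (LinearMap.ext fun x => by
    show inc _ (ev _ (inc ((Kp R (n + 1)).obj M) (ev _ x))) = 0
    exact (congrArg (inc _) (LinearMap.congr_fun (ev_comp_inc ((Kp R (n + 1)).obj M)) _)).trans (map_zero _))

theorem cx_d (M : ModuleCat.{u} R) (n : ℕ) : (cx M).d (n + 1) n = dF M n :=
  (ChainComplex.of_d (fun n => (F R).obj ((Kp R n).obj M)) (dF M) n :)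

/-- Functoriality of the free resolution. -/
def cxMap {M N : ModuleCat.{u} R} (f : M ⟶ N) : cx M ⟶ cx N where
  f n := (F R).map ((Kp R n).map f)
  comm' i j (hij : j + 1 = i) := by
    subst hij
    rw [cx_d, cx_d]
    refine ModuleCat.hom_ext (LinearMap.ext fun x => ?_)
    show inc _ (ev _ (((F R).map ((Kp R (j + 1)).map f)).hom x)) =
      ((F R).map ((Kp R j).map f)).hom (inc _ (ev _ x))
    refine (congrArg (inc _) (LinearMap.congr_fun (ev_comp_map _) x)).trans ?_
    exact LinearMap.congr_fun (inc_comp_map ((Kp R j).map f)) _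

/-- The augmentation. -/
def aug (M : ModuleCat.{u} R) : cx M ⟶ (ChainComplex.single₀ (ModuleCat.{u} R)).obj M :=
  ((cx M).toSingle₀Equiv _).symm ⟨ModuleCat.ofHom (ev M), by
    rw [cx_d]
    exact ModuleCat.hom_ext (LinearMap.ext fun x => LinearMap.congr_fun (ev_comp_inc M) _)⟩

theorem aug_f_zero (M : ModuleCat.{u} R) : (aug M).f 0 = ModuleCat.ofHom (ev M) :=
  ChainComplex.toSingle₀Equiv_symm_apply_f_zero _ _

theorem quasiIso_aug (M : ModuleCat.{u} R) : QuasiIso (aug M) := by
  rw [quasiIso_iff]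
  intro i
  cases i with
  | zero =>
    rw [quasiIsoAt_iff_isIso_homologyMap, ConcreteCategory.isIso_iff_bijective]
    refine DMod.homologyMap_bijective_of _ (ChainComplex.prev ℕ 0) ChainComplex.next_nat_zero ?_ ?_
    · intro x _
      obtain ⟨w, hw⟩ := ev_surjective M x
      refine ⟨w, 0, by simp, ?_⟩
      rw [aug_f_zero, map_zero, add_zero]
      exact hw
    · intro w y _ hy
      rw [aug_f_zero] at hy
      have hw : ev M w = 0 := by
        refine hy.symm.trans ?_
        simp only [HomologicalComplex.single_obj_d]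
        rfl
      obtain ⟨v, hv⟩ := ev_surjective ((K R).obj M) ⟨w, hw⟩
      refine ⟨v, ?_⟩
      rw [cx_d]
      exact congrArg Subtype.val hv
  | succ i =>
    rw [quasiIsoAt_iff_exactAt' _ _ (ChainComplex.exactAt_succ_single_obj ..), DMod.exactAt_iff_subsingleton,
      DMod.subsingleton_homology_iff (i := i + 2) (k := i) _ (ChainComplex.prev ℕ (i + 1)) (ChainComplex.next_nat_succ i)]
    intro x hx
    rw [cx_d] at hx
    have hx' : ev ((Kp R (i + 1)).obj M) x = 0 := inc_injective _ (hx.trans (map_zero (inc _)).symm)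
    obtain ⟨v, hv⟩ := ev_surjective ((K R).obj ((Kp R (i + 1)).obj M)) ⟨x, hx'⟩
    refine ⟨v, ?_⟩
    rw [cx_d]
    exact congrArg Subtype.val hv

/-- The functorial projective resolution. -/
def res (M : ModuleCat.{u} R) : ProjectiveResolution M where
  complex := cx M
  projective i := inferInstanceAs (CategoryTheory.Projective ((F R).obj ((Kp R i).obj M)))
  π := aug M
  quasiIso := quasiIso_aug M

theorem cxMap_comm {M N : ModuleCat.{u} R} (f : M ⟶ N) :
    (cxMap f).f 0 ≫ (res N).π.f 0 = (res M).π.f 0 ≫ f := by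
  show (F R).map ((Kp R 0).map f) ≫ (aug N).f 0 = (aug M).f 0 ≫ f
  rw [aug_f_zero, aug_f_zero]
  exact ModuleCat.hom_ext (ev_comp_map f)

/-! ### The first torsion group, on either side -/

variable (R) in
/-- `ker (M ⊗ K N → M ⊗ F N)`. -/
def T1R : ModuleCat.{u} R × ModuleCat.{u} R ⥤ ModuleCat.{u} R where
  obj X := ModuleCat.of R (LinearMap.ker ((inc X.2).lTensor X.1))
  map {X Y} φ := ModuleCat.ofHom ((TensorProduct.map φ.1.hom ((K R).map φ.2).hom).restrict fun z hz => by
    rw [LinearMap.mem_ker] at hz ⊢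
    rw [← LinearMap.comp_apply, LinearMap.lTensor_comp_map, inc_comp_map, ← LinearMap.map_comp_lTensor,
      LinearMap.comp_apply, hz, map_zero])
  map_id X := ModuleCat.hom_ext (LinearMap.ext fun z => Subtype.ext (by
    show TensorProduct.map (𝟙 X.1 : X.1 ⟶ X.1).hom ((K R).map (𝟙 X.2)).hom z.1 = z.1
    rw [(K R).map_id]
    exact LinearMap.congr_fun TensorProduct.map_id z.1))
  map_comp {X Y Z} φ ψ := ModuleCat.hom_ext (LinearMap.ext fun z => Subtype.ext (by
    show TensorProduct.map (φ.1 ≫ ψ.1).hom ((K R).map (φ.2 ≫ ψ.2)).hom z.1 =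
      TensorProduct.map ψ.1.hom ((K R).map ψ.2).hom (TensorProduct.map φ.1.hom ((K R).map φ.2).hom z.1)
    rw [(K R).map_comp]
    exact LinearMap.congr_fun (TensorProduct.map_comp ψ.1.hom ((K R).map ψ.2).hom φ.1.hom ((K R).map φ.2).hom) z.1))

variable (R) in
/-- `ker (K M ⊗ N → F M ⊗ N)`. -/
def T1L : ModuleCat.{u} R × ModuleCat.{u} R ⥤ ModuleCat.{u} R where
  obj X := ModuleCat.of R (LinearMap.ker ((inc X.1).rTensor X.2))
  map {X Y} φ := ModuleCat.ofHom ((TensorProduct.map ((K R).map φ.1).hom φ.2.hom).restrict fun z hz => by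
    rw [LinearMap.mem_ker] at hz ⊢
    rw [← LinearMap.comp_apply, LinearMap.rTensor_comp_map, inc_comp_map, ← LinearMap.map_comp_rTensor,
      LinearMap.comp_apply, hz, map_zero])
  map_id X := ModuleCat.hom_ext (LinearMap.ext fun z => Subtype.ext (by
    show TensorProduct.map ((K R).map (𝟙 X.1)).hom (𝟙 X.2 : X.2 ⟶ X.2).hom z.1 = z.1
    rw [(K R).map_id]
    exact LinearMap.congr_fun TensorProduct.map_id z.1))
  map_comp {X Y Z} φ ψ := ModuleCat.hom_ext (LinearMap.ext fun z => Subtype.ext (by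
    show TensorProduct.map ((K R).map (φ.1 ≫ ψ.1)).hom (φ.2 ≫ ψ.2).hom z.1 =
      TensorProduct.map ((K R).map ψ.1).hom ψ.2.hom (TensorProduct.map ((K R).map φ.1).hom φ.2.hom z.1)
    rw [(K R).map_comp]
    exact LinearMap.congr_fun (TensorProduct.map_comp ((K R).map ψ.1).hom ψ.2.hom ((K R).map φ.1).hom φ.2.hom) z.1))

section Sigma

variable (M N : ModuleCat.{u} R)

/-- Compatible pairs in `(K M ⊗ F N) × (F M ⊗ K N)`. -/
def pairs : Submodule R (((K R).obj M ⊗[R] (F R).obj N) × ((F R).obj M ⊗[R] (K R).obj N)) :=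
  LinearMap.ker ((inc M).rTensor ((F R).obj N) ∘ₗ LinearMap.fst R _ _ -
    (inc N).lTensor ((F R).obj M) ∘ₗ LinearMap.snd R _ _)

theorem mem_pairs {a : (K R).obj M ⊗[R] (F R).obj N} {b : (F R).obj M ⊗[R] (K R).obj N} :
    (a, b) ∈ pairs M N ↔ (inc M).rTensor ((F R).obj N) a = (inc N).lTensor ((F R).obj M) b := by
  simp [pairs, sub_eq_zero]

theorem lT_rT {A B C D : Type u} [AddCommGroup A] [Module R A] [AddCommGroup B] [Module R B]
    [AddCommGroup C] [Module R C] [AddCommGroup D] [Module R D] (f : A →ₗ[R] B) (g : C →ₗ[R] D) (z : A ⊗[R] C) :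
    g.lTensor B (f.rTensor C z) = f.rTensor D (g.lTensor A z) := by
  rw [← LinearMap.comp_apply, LinearMap.lTensor_comp_rTensor, ← LinearMap.comp_apply,
    LinearMap.rTensor_comp_lTensor]

theorem lT_lT_zero {A B C D : Type u} [AddCommGroup A] [Module R A] [AddCommGroup B] [Module R B]
    [AddCommGroup C] [Module R C] [AddCommGroup D] [Module R D] (g : B →ₗ[R] C) (h : C →ₗ[R] D)
    (hgh : h ∘ₗ g = 0) (z : A ⊗[R] B) : h.lTensor A (g.lTensor A z) = 0 := by
  rw [← LinearMap.comp_apply, ← LinearMap.lTensor_comp, hgh, LinearMap.lTensor_zero, LinearMap.zero_apply]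

theorem rT_rT_zero {A B C D : Type u} [AddCommGroup A] [Module R A] [AddCommGroup B] [Module R B]
    [AddCommGroup C] [Module R C] [AddCommGroup D] [Module R D] (g : B →ₗ[R] C) (h : C →ₗ[R] D)
    (hgh : h ∘ₗ g = 0) (z : B ⊗[R] A) : h.rTensor A (g.rTensor A z) = 0 := by
  rw [← LinearMap.comp_apply, ← LinearMap.rTensor_comp, hgh, LinearMap.rTensor_zero, LinearMap.zero_apply]

/-- To the left. -/
def pL : pairs M N →ₗ[R] (T1L R).obj (M, N) :=
  LinearMap.codRestrict (LinearMap.ker ((inc M).rTensor N))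
    ((ev N).lTensor ((K R).obj M) ∘ₗ LinearMap.fst R _ _ ∘ₗ (pairs M N).subtype) fun d => by
    have h := (mem_pairs M N).1 d.2
    rw [LinearMap.mem_ker]
    show (inc M).rTensor N ((ev N).lTensor _ d.1.1) = 0
    rw [← lT_rT, h]
    exact lT_lT_zero _ _ (ev_comp_inc N) _

/-- To the right. -/
def pR : pairs M N →ₗ[R] (T1R R).obj (M, N) :=
  LinearMap.codRestrict (LinearMap.ker ((inc N).lTensor M))
    ((ev M).rTensor ((K R).obj N) ∘ₗ LinearMap.snd R _ _ ∘ₗ (pairs M N).subtype) fun d => by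
    have h := (mem_pairs M N).1 d.2
    rw [LinearMap.mem_ker]
    show (inc N).lTensor M ((ev M).rTensor _ d.1.2) = 0
    rw [lT_rT, ← h]
    exact rT_rT_zero _ _ (ev_comp_inc M) _

theorem pL_surjective : Function.Surjective (pL M N) := by
  intro z
  obtain ⟨a, ha⟩ := LinearMap.lTensor_surjective ((K R).obj M) (ev_surjective N) z.1
  have h : (ev N).lTensor ((F R).obj M) ((inc M).rTensor ((F R).obj N) a) = 0 := by
    rw [lT_rT, ha]; exact z.2
  obtain ⟨b, hb⟩ := (lTensor_exact ((F R).obj M) (exact_inc_ev N) (ev_surjective N) _).1 h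
  exact ⟨⟨(a, b), (mem_pairs M N).2 hb.symm⟩, Subtype.ext ha⟩

theorem pR_surjective : Function.Surjective (pR M N) := by
  intro z
  obtain ⟨b, hb⟩ := LinearMap.rTensor_surjective ((K R).obj N) (ev_surjective M) z.1
  have h : (ev M).rTensor ((F R).obj N) ((inc N).lTensor ((F R).obj M) b) = 0 := by
    rw [← lT_rT, hb]; exact z.2
  obtain ⟨a, ha⟩ := (rTensor_exact ((F R).obj N) (exact_inc_ev M) (ev_surjective M) _).1 h
  exact ⟨⟨(a, b), (mem_pairs M N).2 ha⟩, Subtype.ext hb⟩

theorem ker_pL : LinearMap.ker (pL M N) = LinearMap.ker (pR M N) := by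
  ext ⟨⟨a, b⟩, hd⟩
  have h := (mem_pairs M N).1 hd
  rw [LinearMap.mem_ker, LinearMap.mem_ker]
  refine Subtype.ext_iff.trans (Iff.trans ?_ Subtype.ext_iff.symm)
  show (ev N).lTensor _ a = 0 ↔ (ev M).rTensor _ b = 0
  constructor
  · intro ha
    obtain ⟨c, rfl⟩ := (lTensor_exact ((K R).obj M) (exact_inc_ev N) (ev_surjective N) _).1 ha
    have hb : b = (inc M).rTensor _ c :=
      Module.Flat.lTensor_preserves_injective_linearMap (inc N) (inc_injective N) (by rw [← h, lT_rT])
    rw [hb]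
    exact rT_rT_zero _ _ (ev_comp_inc M) _
  · intro hb
    obtain ⟨c, rfl⟩ := (rTensor_exact ((K R).obj N) (exact_inc_ev M) (ev_surjective M) _).1 hb
    have ha : a = (inc N).lTensor _ c :=
      Module.Flat.rTensor_preserves_injective_linearMap (inc M) (inc_injective M) (by rw [h, lT_rT])
    rw [ha]
    exact lT_lT_zero _ _ (ev_comp_inc N) _

/-- The balance of the first torsion group. -/
def sigmaEquiv : (T1L R).obj (M, N) ≃ₗ[R] (T1R R).obj (M, N) :=
  (LinearMap.quotKerEquivOfSurjective (pL M N) (pL_surjective M N)).symm ≪≫ₗ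
    Submodule.quotEquivOfEq _ _ (ker_pL M N) ≪≫ₗ LinearMap.quotKerEquivOfSurjective (pR M N) (pR_surjective M N)

theorem sigmaEquiv_pL (d : pairs M N) : sigmaEquiv M N (pL M N d) = pR M N d := by
  simp [sigmaEquiv]

end Sigma

variable (R) in
/-- The balance, naturally. -/
def sigma : T1L R ≅ T1R R :=
  NatIso.ofComponents (fun X => (sigmaEquiv X.1 X.2).toModuleIso) fun {X Y} φ => by
    refine ModuleCat.hom_ext (LinearMap.ext fun z => ?_)
    obtain ⟨⟨⟨a, b⟩, hd⟩, rfl⟩ := pL_surjective X.1 X.2 z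
    have hd' : (TensorProduct.map ((K R).map φ.1).hom ((F R).map φ.2).hom a,
        TensorProduct.map ((F R).map φ.1).hom ((K R).map φ.2).hom b) ∈ pairs Y.1 Y.2 := by
      rw [mem_pairs, ← LinearMap.comp_apply, LinearMap.rTensor_comp_map, inc_comp_map, ← LinearMap.map_comp_rTensor,
        LinearMap.comp_apply, (mem_pairs _ _).1 hd, ← LinearMap.comp_apply, LinearMap.map_comp_lTensor,
        ← inc_comp_map, ← LinearMap.lTensor_comp_map, LinearMap.comp_apply]
    show sigmaEquiv Y.1 Y.2 ((T1L R).map φ (pL X.1 X.2 ⟨(a, b), hd⟩)) =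
      (T1R R).map φ (sigmaEquiv X.1 X.2 (pL X.1 X.2 ⟨(a, b), hd⟩))
    rw [sigmaEquiv_pL]
    have h1 : (T1L R).map φ (pL X.1 X.2 ⟨(a, b), hd⟩) = pL Y.1 Y.2 ⟨_, hd'⟩ := by
      refine Subtype.ext ?_
      show TensorProduct.map ((K R).map φ.1).hom φ.2.hom ((ev X.2).lTensor _ a) =
        (ev Y.2).lTensor _ (TensorProduct.map ((K R).map φ.1).hom ((F R).map φ.2).hom a)
      rw [← LinearMap.comp_apply, LinearMap.map_comp_lTensor, ← ev_comp_map, ← LinearMap.lTensor_comp_map,
        LinearMap.comp_apply]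
    rw [h1, sigmaEquiv_pL]
    refine Subtype.ext ?_
    show (ev Y.1).rTensor _ (TensorProduct.map ((F R).map φ.1).hom ((K R).map φ.2).hom b) =
      TensorProduct.map φ.1.hom ((K R).map φ.2).hom ((ev X.1).rTensor _ b)
    rw [← LinearMap.comp_apply, LinearMap.rTensor_comp_map, ev_comp_map, ← LinearMap.map_comp_rTensor,
      LinearMap.comp_apply]

theorem ker_shift (M N : ModuleCat.{u} R) :
    LinearMap.ker ((inc M).rTensor ((K R).obj N)) = LinearMap.ker ((inc N).lTensor ((K R).obj M)) := by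
  ext z
  simp only [LinearMap.mem_ker]
  constructor
  · intro h
    refine Module.Flat.rTensor_preserves_injective_linearMap (M := (F R).obj N) (inc M) (inc_injective M) ?_
    rw [← lT_rT, h, map_zero, map_zero]
  · intro h
    refine Module.Flat.lTensor_preserves_injective_linearMap (M := (F R).obj M) (inc N) (inc_injective N) ?_
    rw [lT_rT, h, map_zero, map_zero]

variable (R) in
/-- Shifting a syzygy from the right to the left. -/
def shift : (𝟭 (ModuleCat.{u} R)).prod (K R) ⋙ T1L R ≅ (K R).prod (𝟭 (ModuleCat.{u} R)) ⋙ T1R R :=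
  NatIso.ofComponents (fun X => (LinearEquiv.ofEq _ _ (ker_shift X.1 X.2)).toModuleIso) fun {X Y} φ => rfl

variable (R) in
/-- Moving one syzygy. -/
def step (i j : ℕ) : (Kp R j).prod (Kp R (i + 1)) ⋙ T1R R ≅ (Kp R (j + 1)).prod (Kp R i) ⋙ T1R R :=
  NatIso.ofComponents
    (fun X => ((sigma R).app ((Kp R j).obj X.1, (K R).obj ((Kp R i).obj X.2))).symm ≪≫
      (shift R).app ((Kp R j).obj X.1, (Kp R i).obj X.2))
    fun {X Y} φ => by
      have h1 := (sigma R).inv.naturality
        (((Kp R j).map φ.1, (K R).map ((Kp R i).map φ.2)) :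
          ((Kp R j).obj X.1, (K R).obj ((Kp R i).obj X.2)) ⟶ ((Kp R j).obj Y.1, (K R).obj ((Kp R i).obj Y.2)))
      have h2 := (shift R).hom.naturality
        (((Kp R j).map φ.1, (Kp R i).map φ.2) :
          ((Kp R j).obj X.1, (Kp R i).obj X.2) ⟶ ((Kp R j).obj Y.1, (Kp R i).obj Y.2))
      simp only [Iso.trans_hom, Iso.symm_hom, Iso.app_inv, Iso.app_hom, Category.assoc]
      exact ((Category.assoc _ _ _).symm.trans (congrArg (· ≫ _) h1)).trans
        ((Category.assoc _ _ _).trans ((congrArg (_ ≫ ·) h2).trans (Category.assoc _ _ _).symm)) |>.trans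
          (Category.assoc _ _ _)

theorem chain : ∀ i j : ℕ, Nonempty ((Kp R j).prod (Kp R i) ⋙ T1R R ≅ (Kp R (j + i)).prod (Kp R 0) ⋙ T1R R)
  | 0, j => ⟨Iso.refl _⟩
  | i + 1, j => by
    obtain ⟨e⟩ := chain i (j + 1)
    rw [show j + 1 + i = j + (i + 1) by omega] at e
    exact ⟨step R i j ≪≫ e⟩

end Groth.Agent.TorBal27
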