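import Groth.Agent.Lib.TorBal27.Balance
import Groth.Agent.Lib.KFlat.Colim
import Mathlib.Algebra.Category.ModuleCat.AB
import Mathlib.Algebra.Category.ModuleCat.Monoidal.Closed
import Mathlib.CategoryTheory.Limits.Preserves.Filtered

/-!
# `Tor` and filtered colimits
-/

set_option autoImplicit false
universe u

open CategoryTheory CategoryTheory.Limits MonoidalCategory

noncomputable section

namespace Groth.Agent.TorBal27

variable {R : Type u} [CommRing R]

/-- `M ↦ M ⊗ F•N`. -/
def tcxFun (N : ModuleCat.{u} R) : ModuleCat.{u} R ⥤ ChainComplex (ModuleCat.{u} R) ℕ where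
  obj M := tcxR M N
  map f := (NatTrans.mapHomologicalComplex ((tensoringLeft (ModuleCat.{u} R)).map f) _).app (cx N)
  map_id M := HomologicalComplex.hom_ext _ _ fun i => MonoidalCategory.id_whiskerRight M _
  map_comp f g := HomologicalComplex.hom_ext _ _ fun i => MonoidalCategory.comp_whiskerRight f g _

theorem preservesColimits_tensorRight (X : ModuleCat.{u} R) :
    PreservesColimitsOfSize.{u, u} (tensorRight X) :=
  have : PreservesColimitsOfSize.{u, u} (tensorLeft X) := (ihom.adjunction X).leftAdjoint_preservesColimits
  preservesColimits_of_natIso (BraidedCategory.tensorLeftIsoTensorRight X)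

/-- `Tor` in the first variable is the homology of this. -/
def flipIso (N : ModuleCat.{u} R) (n : ℕ) :
    (Tor (ModuleCat.{u} R) n).flip.obj N ≅ tcxFun N ⋙ HomologicalComplex.homologyFunctor _ _ n :=
  NatIso.ofComponents (fun M => torIso n M N) fun {M M'} f => by
    show (NatTrans.leftDerived ((tensoringLeft (ModuleCat.{u} R)).map f) n).app N ≫ _ = _
    rw [ProjectiveResolution.leftDerived_app_eq ((tensoringLeft (ModuleCat.{u} R)).map f) (res N) n]
    simp only [torIso, Category.assoc]
    erw [Iso.inv_hom_id, Category.comp_id]
    rfl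

theorem preservesColimitsOfShape_flip (N : ModuleCat.{u} R) (n : ℕ) (J : Type u) [SmallCategory J] [IsFiltered J] :
    PreservesColimitsOfShape J ((Tor (ModuleCat.{u} R) n).flip.obj N) := by
  haveI : PreservesColimitsOfShape J (tcxFun N) :=
    HomologicalComplex.preservesColimitsOfShape_of_eval _ fun i =>
      haveI := preservesColimits_tensorRight ((cx N).X i)
      preservesColimitsOfShape_of_natIso (F := tensorRight ((cx N).X i))
        (NatIso.ofComponents (fun M => Iso.refl _) fun f => (Category.comp_id _).trans (Category.id_comp _).symm)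
  exact preservesColimitsOfShape_of_natIso (flipIso N n).symm

theorem preservesColimitsOfShape_obj (M : ModuleCat.{u} R) (n : ℕ) (J : Type u) [SmallCategory J] [IsFiltered J] :
    PreservesColimitsOfShape J ((Tor (ModuleCat.{u} R) n).obj M) := by
  obtain ⟨e⟩ := nonempty_tor_iso_flip (R := R) n
  haveI := preservesColimitsOfShape_flip M n J
  exact preservesColimitsOfShape_of_natIso (e.app M).symm

end Groth.Agent.TorBal27
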